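import Groth.Agent.H9Hens.PtColim
import Mathlib.RingTheory.Unramified.Finite
import Mathlib.RingTheory.Ideal.Pure
import Mathlib.RingTheory.Etale.Weakly

/-! The colimit of pointed etale algebras is weakly etale. -/

set_option autoImplicit false

universe u

open TensorProduct

namespace Groth.Agent.H26ProEt

variable {A : Type u} [CommRing A] {k : Type u} [CommRing k] [Algebra A k]
variable {H : Type u} [CommRing H] [Algebra A H] {π : H →ₐ[A] k}

open Groth.Agent.H9Hens

lemma exists_rep_tensor (hH : IsPtColim π) (x : H ⊗[A] H) :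
    ∃ (S : Type u) (_ : CommRing S) (_ : Algebra A S) (_ : Algebra.Etale A S) (φ : S →ₐ[A] H)
      (x₀ : S ⊗[A] S), Algebra.TensorProduct.map φ φ x₀ = x := by
  induction x using TensorProduct.induction_on with
  | zero => exact ⟨A, inferInstance, inferInstance, inferInstance, Algebra.ofId A H, 0, map_zero _⟩
  | tmul a b =>
    obtain ⟨S, _, _, _, φ, y, hy⟩ := hH.exists_rep_fin ![a, b]
    exact ⟨S, inferInstance, inferInstance, inferInstance, φ, y 0 ⊗ₜ y 1, by
      rw [Algebra.TensorProduct.map_tmul, hy, hy]; rfl⟩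
  | add a b ha hb =>
    obtain ⟨S₁, _, _, _, φ₁, a₀, rfl⟩ := ha
    obtain ⟨S₂, _, _, _, φ₂, b₀, rfl⟩ := hb
    let φ : S₁ ⊗[A] S₂ →ₐ[A] H := Algebra.TensorProduct.lift φ₁ φ₂ fun _ _ => Commute.all _ _
    refine ⟨S₁ ⊗[A] S₂, inferInstance, inferInstance, Algebra.Etale.comp A S₁ (S₁ ⊗[A] S₂), φ,
      Algebra.TensorProduct.map (Algebra.TensorProduct.includeLeft : S₁ →ₐ[A] S₁ ⊗[A] S₂) (Algebra.TensorProduct.includeLeft : S₁ →ₐ[A] S₁ ⊗[A] S₂) a₀ +
        Algebra.TensorProduct.map (Algebra.TensorProduct.includeRight : S₂ →ₐ[A] S₁ ⊗[A] S₂) (Algebra.TensorProduct.includeRight : S₂ →ₐ[A] S₁ ⊗[A] S₂) b₀, ?_⟩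
    rw [map_add, ← AlgHom.comp_apply, ← AlgHom.comp_apply, ← Algebra.TensorProduct.map_comp,
      ← Algebra.TensorProduct.map_comp]
    rw [show φ.comp Algebra.TensorProduct.includeLeft = φ₁ from AlgHom.ext fun s => by simp [φ],
      show φ.comp Algebra.TensorProduct.includeRight = φ₂ from AlgHom.ext fun s => by simp [φ]]

lemma mul_elem_eq_zero {T : Type u} [CommRing T] [Algebra A T] [Algebra.Etale A T] {x : T ⊗[A] T}
    (hx : Algebra.TensorProduct.lmul' A x = 0) : x * Algebra.FormallyUnramified.elem A T = 0 := by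
  have h : x ∈ KaehlerDifferential.ideal A T := hx
  rw [← KaehlerDifferential.span_range_eq_ideal] at h
  clear hx
  induction h using Submodule.span_induction with
  | mem y hy =>
    obtain ⟨s, rfl⟩ := hy
    exact Algebra.FormallyUnramified.one_tmul_sub_tmul_one_mul_elem s
  | zero => rw [zero_mul]
  | add y z _ _ hy hz => rw [add_mul, hy, hz, add_zero]
  | smul a y _ hy => rw [smul_eq_mul, mul_assoc, hy, mul_zero]

lemma exists_eq_mul (hH : IsPtColim π) (x : H ⊗[A] H) (hx : Algebra.TensorProduct.lmul' A x = 0) :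
    ∃ y : H ⊗[A] H, Algebra.TensorProduct.lmul' A y = 0 ∧ x = x * y := by
  obtain ⟨S, _, _, _, φ, x₀, rfl⟩ := exists_rep_tensor hH x
  have hμ : ∀ {T : Type u} [CommRing T] [Algebra A T] {T' : Type u} [CommRing T'] [Algebra A T'] (χ : T →ₐ[A] T') (z : T ⊗[A] T),
      Algebra.TensorProduct.lmul' A (Algebra.TensorProduct.map χ χ z) = χ (Algebra.TensorProduct.lmul' A z) := by
    intro T _ _ T' _ _ χ z
    induction z using TensorProduct.induction_on with
    | zero => simp
    | tmul a b => simp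
    | add a b ha hb => simp [ha, hb]
  rw [hμ] at hx
  obtain ⟨T, _, _, _, ψ, φT, hcomp, hz⟩ := hH.exists_eq_zero S φ _ hx
  set x₁ := Algebra.TensorProduct.map ψ ψ x₀ with hx₁
  have h1 : Algebra.TensorProduct.lmul' A x₁ = 0 := by rw [hx₁, hμ]; exact hz
  refine ⟨Algebra.TensorProduct.map φT φT (1 - Algebra.FormallyUnramified.elem A T), ?_, ?_⟩
  · rw [hμ, map_sub, Algebra.FormallyUnramified.lmul_elem, map_one, sub_self, map_zero]
  · have hx' : Algebra.TensorProduct.map φ φ x₀ = Algebra.TensorProduct.map φT φT x₁ := by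
      rw [hx₁, ← AlgHom.comp_apply, ← Algebra.TensorProduct.map_comp, hcomp]
    rw [hx', ← map_mul, mul_sub, mul_elem_eq_zero h1, mul_one, sub_zero]

theorem weaklyEtale (hH : IsPtColim π) : Algebra.WeaklyEtale A H where
  flat := hH.flat
  flat_lmul' := by
    let μ := Algebra.TensorProduct.lmul' A (S := H)
    have hμs : Function.Surjective μ.toRingHom := fun a => ⟨a ⊗ₜ 1, by simp [μ]⟩
    haveI : (RingHom.ker μ.toRingHom).Pure := Ideal.Pure.of_inf_eq_mul _ fun J _ => by
      refine le_antisymm (fun x hx => ?_) Ideal.mul_le_inf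
      obtain ⟨y, hy, e⟩ := exists_eq_mul hH x hx.1
      rw [e, mul_comm x y]
      exact Ideal.mul_mem_mul hy hx.2
    algebraize [μ.toRingHom]
    exact Module.Flat.of_linearEquiv
      ((AlgEquiv.ofRingEquiv (f := RingHom.quotientKerEquivOfSurjective hμs) fun _ => rfl :
        ((H ⊗[A] H) ⧸ RingHom.ker μ.toRingHom) ≃ₐ[H ⊗[A] H] H).toLinearEquiv.symm)

end Groth.Agent.H26ProEt
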