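import Groth.Agent.H26ProEt.FiniteCover
import Groth.Prelude.Def_ProEtS
import Groth.Prelude.Def_PBC
import Mathlib.AlgebraicGeometry.Limits
import Mathlib.CategoryTheory.Sites.LocallySurjective
import Mathlib.CategoryTheory.Sites.Canonical

/-! Weakly contractible affine objects of the pro-étale site: w-contractible rings, split
coverings and clopen partitions. -/

set_option autoImplicit false

universe u

open CategoryTheory CategoryTheory.Limits AlgebraicGeometry Opposite

namespace Groth.Agent.H26ProEt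

variable {X : Scheme.{u}}

/-- An open piece of an object of the pro-étale site. -/
noncomputable abbrev pieceObj (U : X.ProEt) (O : U.left.Opens) : X.ProEt := Scheme.ProEt.mk (O.ι ≫ U.hom)

/-- The inclusion of an open piece. -/
noncomputable abbrev pieceHom (U : X.ProEt) (O : U.left.Opens) : pieceObj U O ⟶ U :=
  MorphismProperty.Over.homMk O.ι

/-- A finite partition into opens. -/
structure IsPartition {T : Scheme.{u}} {n : ℕ} (W : Fin n → T.Opens) : Prop where
  disjoint : Pairwise fun k l => Disjoint (W k : Set T) (W l)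
  cover : ∀ x : T, ∃ k, x ∈ W k

lemma IsPartition.isClopen {T : Scheme.{u}} {n : ℕ} {W : Fin n → T.Opens} (hW : IsPartition W) (k : Fin n) :
    IsClopen (W k : Set T) := by
  refine ⟨⟨?_⟩, (W k).isOpen⟩
  rw [show (W k : Set T)ᶜ = ⋃ (l) (_ : l ≠ k), (W l : Set T) by
    ext x
    simp only [Set.mem_compl_iff, Set.mem_iUnion]
    constructor
    · intro hx
      obtain ⟨l, hl⟩ := hW.cover x
      exact ⟨l, fun e => hx (e ▸ hl), hl⟩
    · rintro ⟨l, hlk, hl⟩ hx
      exact Set.disjoint_left.1 (hW.disjoint hlk) hl hx]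
  exact isOpen_iUnion fun l => isOpen_iUnion fun _ => (W l).isOpen

variable {U : X.ProEt} {n : ℕ} {W : Fin n → U.left.Opens}

lemma mono_pieceHom (O : U.left.Opens) {Z : X.ProEt} {a b : Z ⟶ pieceObj U O}
    (h : a ≫ pieceHom U O = b ≫ pieceHom U O) : a = b :=
  MorphismProperty.Over.Hom.ext ((cancel_mono O.ι).1 (congrArg (fun q => q.left) h))

lemma IsPartition.isEmpty (hW : IsPartition W) {k l : Fin n} (h : k ≠ l) {Z : X.ProEt}
    (a : Z ⟶ pieceObj U (W k)) (b : Z ⟶ pieceObj U (W l))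
    (e : a ≫ pieceHom U (W k) = b ≫ pieceHom U (W l)) : IsEmpty Z.left := by
  refine ⟨fun z => Set.disjoint_left.1 (hW.disjoint h) (a.left z).2 ?_⟩
  have e1 : (W k).ι (a.left z) = (W l).ι (b.left z) :=
    congrArg (fun q : Z ⟶ U => q.left z) e
  show (W k).ι (a.left z) ∈ W l
  rw [e1]
  exact (b.left z).2

theorem IsPartition.existsUnique_glue (hW : IsPartition W) {Y : X.ProEt}
    (h : ∀ k, pieceObj U (W k) ⟶ Y) : ∃! m : U ⟶ Y, ∀ k, pieceHom U (W k) ≫ m = h k := by
  let 𝒰 : U.left.OpenCover := U.left.openCoverOfIsOpenCover W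
    (TopologicalSpace.Opens.ext (by
      ext x
      simpa using hW.cover x))
  have hf : ∀ k l : Fin n, pullback.fst (𝒰.f k) (𝒰.f l) ≫ (h k).left = pullback.snd (𝒰.f k) (𝒰.f l) ≫ (h l).left := by
    intro k l
    by_cases hkl : k = l
    · subst hkl
      rw [(cancel_mono (𝒰.f k)).1 pullback.condition]
    · haveI : IsEmpty ↥(pullback (𝒰.f k) (𝒰.f l)) := ⟨fun z => by
        have e1 : (W k).ι (pullback.fst (𝒰.f k) (𝒰.f l) z) = (W l).ι (pullback.snd (𝒰.f k) (𝒰.f l) z) :=
          congrArg (fun q : pullback (𝒰.f k) (𝒰.f l) ⟶ U.left => q z) pullback.condition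
        refine Set.disjoint_left.1 (hW.disjoint hkl) (pullback.fst (𝒰.f k) (𝒰.f l) z).2 ?_
        show (W k).ι _ ∈ W l
        rw [e1]
        exact (pullback.snd (𝒰.f k) (𝒰.f l) z).2⟩
      exact isInitialOfIsEmpty.hom_ext _ _
  let m := 𝒰.glueMorphisms (fun k => (h k).left) hf
  have hm : ∀ k, (W k).ι ≫ m = (h k).left := fun k => 𝒰.ι_glueMorphisms _ hf k
  have hw : m ≫ Y.hom = U.hom := 𝒰.hom_ext _ _ fun k => by
    show (W k).ι ≫ m ≫ Y.hom = (W k).ι ≫ U.hom
    rw [← Category.assoc, hm]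
    exact MorphismProperty.Over.w (h k)
  refine ⟨MorphismProperty.Over.homMk m hw, fun k => MorphismProperty.Over.Hom.ext (hm k), fun m' hm' => ?_⟩
  refine MorphismProperty.Over.Hom.ext (𝒰.hom_ext _ _ fun k => ?_)
  show (W k).ι ≫ m'.left = (W k).ι ≫ m
  rw [hm]
  exact congrArg (fun q => q.left) (hm' k)

theorem IsPartition.mem_topology (hW : IsPartition W) :
    Sieve.ofArrows (fun k => pieceObj U (W k)) (fun k => pieceHom U (W k)) ∈ Scheme.ProEt.topology X U := by
  refine Precoverage.generate_mem_toGrothendieck ?_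
  simp only [Scheme.ProEt.precoverage, Precoverage.mem_comap_iff, Presieve.map_ofArrows]
  apply Scheme.zariskiPrecoverage_le_propQCPrecoverage
  let E : PreZeroHypercover U.left := ⟨Fin n, fun k => (W k : Scheme.{u}), fun k => (W k).ι⟩
  show E.presieve₀ ∈ Scheme.precoverage @IsOpenImmersion U.left
  rw [Scheme.presieve₀_mem_precoverage_iff]
  exact ⟨fun x => (hW.cover x).imp fun k hk => ⟨⟨x, hk⟩, rfl⟩,
    fun k => (inferInstance : IsOpenImmersion (W k).ι)⟩

lemma subsingleton_sections_of_isEmpty {F : X.ProEtᵒᵖ ⥤ Type (u + 1)}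
    (hF : Presieve.IsSheaf (Scheme.ProEt.topology X) F) (Z : X.ProEt) [IsEmpty Z.left] :
    Subsingleton (F.obj (op Z)) :=
  ⟨fun a b => (hF ⊥ (Scheme.ProEt.bot_mem_topology Z)).isSeparatedFor.ext fun _ _ h => h.elim⟩

theorem IsPartition.existsUnique_section (hW : IsPartition W) {F : X.ProEtᵒᵖ ⥤ Type (u + 1)}
    (hF : Presieve.IsSheaf (Scheme.ProEt.topology X) F) (t : ∀ k, F.obj (op (pieceObj U (W k)))) :
    ∃! s, ∀ k, F.map (pieceHom U (W k)).op s = t k := by
  have h := (Presieve.isSheafFor_iff_generate _).2 (hF _ hW.mem_topology)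
  refine (Presieve.isSheafFor_arrows_iff _ _).1 h t fun k l Z a b e => ?_
  by_cases hkl : k = l
  · subst hkl
    rw [mono_pieceHom _ e]
  · haveI := hW.isEmpty hkl a b e
    exact (subsingleton_sections_of_isEmpty hF Z).elim _ _

variable (U)

/-- Every affine cover of `U` splits. -/
def Splits : Prop :=
  ∀ (V : X.ProEt) (g : V ⟶ U), IsAffine V.left → Surjective g.left → ∃ s : U ⟶ V, s ≫ g = 𝟙 U

/-- Every covering sieve contains a finite open partition. -/
def Refines : Prop :=
  ∀ R ∈ Scheme.ProEt.topology X U, ∃ (n : ℕ) (W : Fin n → U.left.Opens),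
    IsPartition W ∧ ∀ k, R.arrows (pieceHom U (W k))

variable {U}

lemma generate_singleton_mem [IsAffine U.left] {V : X.ProEt} (g : V ⟶ U) [IsAffine V.left]
    (hg : Surjective g.left) :
    Sieve.ofArrows (fun _ : Fin 1 => V) (fun _ => g) ∈ Scheme.ProEt.topology X U :=
  mem_topology_of_finite_affine (hV := fun _ => inferInstance) _ _ fun x =>
    ⟨0, hg.surj x⟩

theorem splits_of_refines [IsAffine U.left] (h : Refines U) : Splits U := by
  intro V g _ hg
  obtain ⟨n, W, hW, hR⟩ := h _ (generate_singleton_mem g hg)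
  have hh' : ∀ k, ∃ p : pieceObj U (W k) ⟶ V, p ≫ g = pieceHom U (W k) := fun k => by
    obtain ⟨Z, q, _, ⟨i⟩, e⟩ := hR k
    exact ⟨q, e⟩
  choose p hp using hh'
  obtain ⟨s, hs, -⟩ := hW.existsUnique_glue p
  refine ⟨s, ?_⟩
  obtain ⟨m, -, hmu⟩ := hW.existsUnique_glue fun k => pieceHom U (W k)
  rw [hmu (s ≫ g) fun k => by rw [← Category.assoc, hs, hp], hmu (𝟙 U) fun k => Category.comp_id _]

theorem refines_of_splits [IsAffine U.left] (h : Splits U) : Refines U := by
  intro R hR
  obtain ⟨n, V, g, hV, hg, hcov⟩ := exists_finite_affine hR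
  have hs : ∀ x : U.left, ∃ (k : Fin n) (y : (V k).left), (g k).left y = x := by
    intro x
    obtain ⟨R', hR', hle⟩ := mem_topology_iff.1 hcov
    obtain ⟨ι, A, a, rfl⟩ := R'.exists_eq_ofArrows
    simp only [Scheme.ProEt.precoverage, Precoverage.mem_comap_iff, Presieve.map_ofArrows] at hR'
    obtain ⟨i, y, hy⟩ := ((Scheme.ofArrows_mem_precoverage_iff _).1 hR'.2).1 x
    obtain ⟨_, q, _, ⟨k⟩, hq⟩ := hle _ _ ⟨i⟩
    refine ⟨k, q.left y, ?_⟩
    rw [← hy, ← hq]
    rfl
  haveI := hV
  let f := Sigma.desc fun k => (V k).hom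
  haveI : WeaklyEtale f := (IsZariskiLocalAtSource.iff_of_openCover (P := @WeaklyEtale)
    (sigmaOpenCover fun k => (V k).left)).2 fun k => by
      show WeaklyEtale (Sigma.ι (fun k => (V k).left) k ≫ f)
      rw [Sigma.ι_desc]
      exact (V k).prop
  let G : (∐ fun k => (V k).left) ⟶ U.left := Sigma.desc fun k => (g k).left
  have hG : G ≫ U.hom = f := Sigma.hom_ext _ _ fun k => by
    rw [Sigma.ι_desc_assoc, Sigma.ι_desc]
    exact MorphismProperty.Over.w (g k)
  let gg : Scheme.ProEt.mk f ⟶ U := MorphismProperty.Over.homMk G hG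
  have hsurj : Surjective gg.left := ⟨fun x => by
    obtain ⟨k, y, hy⟩ := hs x
    refine ⟨Sigma.ι (fun k => (V k).left) k y, ?_⟩
    show (Sigma.ι (fun k => (V k).left) k ≫ G) y = x
    rw [Sigma.ι_desc]; exact hy⟩
  obtain ⟨s, hsg⟩ := h (Scheme.ProEt.mk f) gg (inferInstanceAs (IsAffine (∐ fun k => (V k).left))) hsurj
  let O : Fin n → U.left.Opens := fun k => s.left ⁻¹ᵁ (Sigma.ι (fun k => (V k).left) k).opensRange
  refine ⟨n, O, ⟨fun k l hkl => ?_, fun x => ?_⟩, fun k => ?_⟩
  · refine Set.disjoint_left.2 fun x hk hl => ?_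
    exact Set.disjoint_left.1 (TopologicalSpace.Opens.coe_disjoint.2
      (disjoint_opensRange_sigmaι (fun k => (V k).left) k l hkl)) hk hl
  · obtain ⟨k, y, hy⟩ := (sigmaOpenCover fun k => (V k).left).exists_eq (s.left x)
    exact ⟨k, y, hy⟩
  · have hr : Set.range ((O k).ι ≫ s.left) ⊆ Set.range (Sigma.ι (fun k => (V k).left) k) := by
      rintro _ ⟨z, rfl⟩; exact z.2
    let q := IsOpenImmersion.lift (Sigma.ι (fun k => (V k).left) k) ((O k).ι ≫ s.left) hr
    have hq : q ≫ (g k).left = (O k).ι := by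
      have h1 : (Sigma.ι (fun k => (V k).left) k) ≫ G = (g k).left := Sigma.ι_desc _ _
      have h2 : s.left ≫ G = 𝟙 _ := congrArg (fun q => q.left) hsg
      rw [← h1, ← Category.assoc, IsOpenImmersion.lift_fac, Category.assoc]
      erw [h2]
      exact Category.comp_id _
    have hw : q ≫ (V k).hom = (O k).ι ≫ U.hom := by
      rw [← MorphismProperty.Over.w (g k), ← Category.assoc, hq]
    let qq : pieceObj U (O k) ⟶ V k := MorphismProperty.Over.homMk q hw
    rw [show pieceHom U (O k) = qq ≫ g k from MorphismProperty.Over.Hom.ext hq.symm]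
    exact R.downward_closed (hg k) qq

theorem weaklyEtale_SpecMap_iff (A B : Type u) [CommRing A] [CommRing B] [Algebra A B] :
    WeaklyEtale (Spec.map (CommRingCat.ofHom (algebraMap A B))) ↔ Algebra.WeaklyEtale A B := by
  constructor
  · intro hw
    refine { flat := ?_, flat_lmul' := ?_ }
    · exact (RingHom.flat_algebraMap_iff (R := A) (S := B)).1 (Flat.SpecMap_iff.1 hw.flat)
    · have h := hw.flat_diagonal
      rw [diagonal_SpecMap A B, MorphismProperty.cancel_right_of_respectsIso @Flat] at h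
      exact Flat.SpecMap_iff.1 h
  · intro h
    refine { flat := ?_, flat_diagonal := ?_ }
    · exact Flat.SpecMap_iff.2 ((RingHom.flat_algebraMap_iff (R := A) (S := B)).2 Algebra.WeaklyEtale.flat)
    · rw [diagonal_SpecMap A B, MorphismProperty.cancel_right_of_respectsIso @Flat]
      exact Flat.SpecMap_iff.2 (Algebra.WeaklyEtale.flat_lmul' _ _)

theorem splits_iff [IsAffine U.left] : EtPBC.IsWContractible ↥(Γ(U.left, ⊤)) ↔ Splits U := by
  constructor
  · intro h V g _ hg
    let φ := Spec.preimage (V.left.isoSpec.inv ≫ g.left ≫ U.left.isoSpec.hom)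
    letI : Algebra Γ(U.left, ⊤) Γ(V.left, ⊤) := φ.hom.toAlgebra
    haveI : WeaklyEtale g.left := by
      haveI : WeaklyEtale (g.left ≫ U.hom) := by rw [MorphismProperty.Over.w]; infer_instance
      exact WeaklyEtale.of_comp _ U.hom
    have hφ : Spec.map φ = V.left.isoSpec.inv ≫ g.left ≫ U.left.isoSpec.hom := Spec.map_preimage _
    have hw : Algebra.WeaklyEtale Γ(U.left, ⊤) Γ(V.left, ⊤) := (weaklyEtale_SpecMap_iff _ _).1 (by
      show WeaklyEtale (Spec.map φ)
      rw [hφ]; infer_instance)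
    have hff : Module.FaithfullyFlat Γ(U.left, ⊤) Γ(V.left, ⊤) := by
      rw [← RingHom.faithfullyFlat_algebraMap_iff]
      refine (flat_and_surjective_SpecMap_iff φ).1 ?_
      rw [hφ]
      exact ⟨inferInstance, inferInstance⟩
    obtain ⟨ψ⟩ := h _ hff hw
    have hψ : φ ≫ CommRingCat.ofHom ψ.toRingHom = 𝟙 _ := CommRingCat.hom_ext ψ.comp_algebraMap
    let s := U.left.isoSpec.hom ≫ Spec.map (CommRingCat.ofHom ψ.toRingHom) ≫ V.left.isoSpec.inv
    have hs : s ≫ g.left = 𝟙 _ := by
      rw [← cancel_mono U.left.isoSpec.hom, Category.assoc, Category.id_comp]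
      simp only [s, Category.assoc, ← hφ, ← Spec.map_comp, hψ, Spec.map_id, Category.comp_id]
    refine ⟨MorphismProperty.Over.homMk s ?_, MorphismProperty.Over.Hom.ext hs⟩
    rw [← MorphismProperty.Over.w g, ← Category.assoc, hs, Category.id_comp]
  · intro h B _ _ hff hw
    haveI := (weaklyEtale_SpecMap_iff Γ(U.left, ⊤) B).2 hw
    let f := Spec.map (CommRingCat.ofHom (algebraMap Γ(U.left, ⊤) B)) ≫ U.left.isoSpec.inv
    haveI : Surjective (Spec.map (CommRingCat.ofHom (algebraMap Γ(U.left, ⊤) B))) :=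
      ((flat_and_surjective_SpecMap_iff _).2 ((RingHom.faithfullyFlat_algebraMap_iff).2 hff)).2
    let g : Scheme.ProEt.mk (f ≫ U.hom) ⟶ U := MorphismProperty.Over.homMk f
    obtain ⟨s, hs⟩ := h (Scheme.ProEt.mk (f ≫ U.hom)) g (inferInstanceAs (IsAffine (Spec _)))
      (inferInstanceAs (Surjective f))
    let ψ := Spec.preimage (U.left.isoSpec.inv ≫ s.left)
    have hψ : CommRingCat.ofHom (algebraMap Γ(U.left, ⊤) B) ≫ ψ = 𝟙 _ := Spec.map_injective (by
      rw [Spec.map_comp, Spec.map_preimage, Spec.map_id, ← cancel_mono U.left.isoSpec.inv]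
      erw [Category.id_comp]
      rw [Category.assoc, Category.assoc]
      have h2 : s.left ≫ f = 𝟙 _ := congrArg (fun q => q.left) hs
      erw [h2]
      rw [Category.comp_id])
    exact ⟨{ ψ.hom with commutes' := fun r => ConcreteCategory.congr_hom hψ r }⟩

theorem isWC_of_refines (h : Refines U) : ProEtS.IsWC U := by
  intro F G φ hφ s
  haveI := (Sheaf.isLocallySurjective_iff_epi φ).2 hφ
  obtain ⟨n, W, hW, hR⟩ := h _ (Presheaf.imageSieve_mem (Scheme.ProEt.topology X) φ.hom s)
  choose t ht using hR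
  have hF := (isSheaf_iff_isSheaf_of_type _ _).1 F.2
  have hG := (isSheaf_iff_isSheaf_of_type _ _).1 G.2
  obtain ⟨r, hr, -⟩ := hW.existsUnique_section hF t
  refine ⟨r, (hW.existsUnique_section hG fun k => G.obj.map (pieceHom U (W k)).op s).unique (fun k => ?_) fun k => rfl⟩
  rw [← ht k, ← hr k]
  exact (NatTrans.naturality_apply φ.hom (pieceHom U (W k)).op r).symm

theorem splits_of_isWC [IsAffine U.left] (h : ProEtS.IsWC U) : Splits U := by
  intro V g _ hg
  let J := Scheme.ProEt.topology X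
  let φ := (GrothendieckTopology.uliftYoneda.{u + 1} J).map g
  haveI : Sheaf.IsLocallySurjective φ := ⟨fun {Y} f => by
    refine J.superset_covering ?_ (J.pullback_stable f.down (generate_singleton_mem g hg))
    rintro Z a ⟨_, q, _, ⟨i⟩, e⟩
    exact ⟨⟨q⟩, ULift.ext _ _ e⟩⟩
  obtain ⟨⟨s⟩, hs⟩ := h _ _ φ inferInstance ⟨𝟙 U⟩
  exact ⟨s, congrArg ULift.down hs⟩

end Groth.Agent.H26ProEt
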