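import Groth.Agent.H26ProEt.AffineSite

/-! Finite affine jointly surjective families are pro-étale coverings. -/

set_option autoImplicit false

universe u

open CategoryTheory CategoryTheory.Limits AlgebraicGeometry Opposite

namespace Groth.Agent.H26ProEt

variable {S : Scheme.{u}}

theorem mem_topology_of_finite_affine {X : S.ProEt} [IsAffine X.left] {ι : Type} [Finite ι]
    (V : ι → S.ProEt) (g : ∀ k, V k ⟶ X) [hV : ∀ k, IsAffine (V k).left]
    (hs : ∀ x : X.left, ∃ (k : ι) (y : (V k).left), (g k).left y = x) :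
    Sieve.ofArrows V g ∈ Scheme.ProEt.topology S X := by
  refine Precoverage.generate_mem_toGrothendieck ?_
  simp only [Scheme.ProEt.precoverage, Precoverage.mem_comap_iff, Presieve.map_ofArrows]
  have hmem : Presieve.ofArrows (fun k => (V k).left) (fun k => (toSch S).map (g k)) ∈
      Scheme.precoverage @WeaklyEtale X.left := by
    let E : PreZeroHypercover X.left := ⟨ι, fun k => (V k).left, fun k => (toSch S).map (g k)⟩
    show E.presieve₀ ∈ _
    rw [Scheme.presieve₀_mem_precoverage_iff]
    refine ⟨fun x => (hs x).imp fun k ⟨y, hy⟩ => ⟨y, hy⟩, fun k => ?_⟩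
    show WeaklyEtale (g k).left
    haveI : WeaklyEtale ((g k).left ≫ X.hom) := by rw [MorphismProperty.Over.w]; infer_instance
    exact WeaklyEtale.of_comp _ X.hom
  refine ⟨?_, hmem⟩
  let C : X.left.Cover (Scheme.precoverage @WeaklyEtale) :=
    ⟨⟨ι, fun k => (V k).left, fun k => (toSch S).map (g k)⟩, hmem⟩
  haveI : ∀ k, IsAffine (C.X k) := hV
  haveI : Finite C.I₀ := inferInstanceAs (Finite ι)
  exact Scheme.presieve₀_mem_qcPrecoverage_iff.2 (QuasiCompactCover.of_finite (𝒰 := C))

end Groth.Agent.H26ProEt
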