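import Groth.Agent.H26ProEt.WC

/-! Finite coproducts in the pro-étale site and left Kan extensions on weakly contractible objects. -/

set_option autoImplicit false

universe u

open CategoryTheory CategoryTheory.Limits AlgebraicGeometry Opposite

namespace Groth.Agent.H26ProEt

variable {X Y : Scheme.{u}}

theorem exists_coprod {n : ℕ} (V : Fin n → Y.ProEt) :
    ∃ (P : Y.ProEt) (ι : ∀ k, V k ⟶ P) (O : Fin n → P.left.Opens) (e : ∀ k, pieceObj P (O k) ≅ V k),
      IsPartition O ∧ ∀ k, (e k).hom ≫ ι k = pieceHom P (O k) := by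
  let S : Fin n → Scheme.{u} := fun k => (V k).left
  let f : (∐ S) ⟶ Y := Sigma.desc fun k => (V k).hom
  haveI : WeaklyEtale f := (IsZariskiLocalAtSource.iff_of_openCover (P := @WeaklyEtale)
    (sigmaOpenCover S)).2 fun k => by
      show WeaklyEtale (Sigma.ι S k ≫ f)
      rw [Sigma.ι_desc]
      exact (V k).prop
  let i : ∀ k, S k ⟶ ∐ S := fun k => Sigma.ι S k
  haveI hi : ∀ k, IsOpenImmersion (i k) := fun k => inferInstanceAs (IsOpenImmersion (Sigma.ι S k))
  have hw : ∀ k, (Scheme.Hom.isoOpensRange (i k)).inv ≫ (V k).hom =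
      (Scheme.Hom.opensRange (i k)).ι ≫ f := fun k => by
    rw [← Scheme.Hom.isoOpensRange_inv_comp (i k), Category.assoc]
    congr 1
    exact (Sigma.ι_desc (f := S) (fun k => (V k).hom) k).symm
  refine ⟨Scheme.ProEt.mk f, fun k => MorphismProperty.Over.homMk (i k) (Sigma.ι_desc (f := S) (fun k => (V k).hom) k) trivial,
    fun k : Fin n => @Scheme.Hom.opensRange _ _ (i k) (hi k),
    fun k => MorphismProperty.Over.isoMk (Scheme.Hom.isoOpensRange (i k)).symm (hw k),
    ⟨fun k l hkl => TopologicalSpace.Opens.coe_disjoint.2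
      (disjoint_opensRange_sigmaι S k l hkl), fun x => ?_⟩, fun k => ?_⟩
  · obtain ⟨k, y, hy⟩ := (sigmaOpenCover S).exists_eq x
    exact ⟨k, y, hy⟩
  · exact MorphismProperty.Over.Hom.ext (Scheme.Hom.isoOpensRange_inv_comp (i k))

theorem lan_existsUnique_glue (f : X ⟶ Y) [PreservesFiniteLimits (ProEtS.bcP f)]
    (F : Sheaf (Scheme.ProEt.topology Y) (Type (u + 1))) {W : X.ProEt} {n : ℕ} {O : Fin n → W.left.Opens}
    (hO : IsPartition O) (t : ∀ k, ((ProEtS.bcP f).op.lan.obj F.obj).obj (op (pieceObj W (O k)))) :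
    ∃! r, ∀ k, ((ProEtS.bcP f).op.lan.obj F.obj).map (pieceHom W (O k)).op r = t k := by
  let G := ProEtS.bcP f
  haveI : RepresentablyFlat G := flat_of_preservesFiniteLimits _
  let L := G.op.lan.obj F.obj
  let u' : F.obj ⟶ G.op ⋙ L := (G.op.lanUnit).app F.obj
  let mk : ∀ {Z : X.ProEt} (V : Y.ProEt) (_ : Z ⟶ G.obj V), F.obj.obj (op V) → L.obj (op Z) :=
    fun {Z} V a x => L.map a.op (u'.app (op V) x)
  have hmap : ∀ {Z Z' : X.ProEt} (q : Z' ⟶ Z) (V : Y.ProEt) (a : Z ⟶ G.obj V) (x : F.obj.obj (op V)),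
      L.map q.op (mk V a x) = mk V (q ≫ a) x := fun q V a x => by
    show L.map q.op (L.map a.op _) = L.map (q ≫ a).op _
    rw [op_comp, Functor.map_comp]; rfl
  have hpull : ∀ {Z : X.ProEt} {V V' : Y.ProEt} (h : V' ⟶ V) (a : Z ⟶ G.obj V') (x : F.obj.obj (op V)),
      mk V' a (F.obj.map h.op x) = mk V (a ≫ G.map h) x := fun h a x => by
    show L.map a.op (u'.app _ _) = L.map (a ≫ G.map h).op _
    rw [op_comp, Functor.map_comp, NatTrans.naturality_apply u' h.op x]
    rfl
  have hc : ∀ Z : X.ProEt, IsColimit ((Functor.LeftExtension.mk L u').coconeAt (op Z)) := fun Z =>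
    G.op.isPointwiseLeftKanExtensionLeftKanExtensionUnit F.obj (op Z)
  haveI : ∀ Z : X.ProEt, IsFiltered (CostructuredArrow G.op (op Z)) := fun Z => inferInstance
  have hrep : ∀ {Z : X.ProEt} (r : L.obj (op Z)), ∃ V a x, mk V a x = r := fun {Z} r => by
    obtain ⟨j, x, hx⟩ := Types.jointly_surjective _ (hc Z) r
    exact ⟨j.left.unop, j.hom.unop, x, hx⟩
  have heq : ∀ {Z : X.ProEt} {V : Y.ProEt} (a : Z ⟶ G.obj V) (x y : F.obj.obj (op V)),
      mk V a x = mk V a y → ∃ (V' : Y.ProEt) (h : V' ⟶ V) (a' : Z ⟶ G.obj V'),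
        a' ≫ G.map h = a ∧ F.obj.map h.op x = F.obj.map h.op y := fun {Z V} a x y h => by
    obtain ⟨j, g, hg⟩ := (Types.FilteredColimit.isColimit_eq_iff' (hc Z)
      (i := CostructuredArrow.mk (S := G.op) (Y := op V) a.op) x y).1 h
    exact ⟨j.left.unop, g.left.unop, j.hom.unop, congrArg Quiver.Hom.unop (CostructuredArrow.w g), hg⟩
  have hF := (isSheaf_iff_isSheaf_of_type _ _).1 F.2
  refine existsUnique_of_exists_of_unique ?_ fun r r' hr hr' => ?_
  · choose V a x hx using fun k => hrep (t k)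
    obtain ⟨P, ι, O', e, hO', he⟩ := exists_coprod V
    obtain ⟨y, hy, -⟩ := hO'.existsUnique_section hF fun k => F.obj.map (e k).hom.op (x k)
    obtain ⟨b, hb, -⟩ := hO.existsUnique_glue fun k => a k ≫ G.map (ι k)
    refine ⟨mk P b y, fun k => ?_⟩
    rw [hmap, hb, ← hpull]
    have hι : ι k = (e k).inv ≫ pieceHom P (O' k) := by rw [← he k, Iso.inv_hom_id_assoc]
    rw [← hx k]
    congr 1
    rw [hι, op_comp, Functor.map_comp, ConcreteCategory.comp_apply, hy k, ← ConcreteCategory.comp_apply,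
      ← Functor.map_comp, ← op_comp, Iso.inv_hom_id, op_id, CategoryTheory.Functor.map_id]
    rfl
  · obtain ⟨V₁, a₁, x₁, rfl⟩ := hrep r
    obtain ⟨V₂, a₂, x₂, rfl⟩ := hrep r'
    obtain ⟨j, g₁, g₂, -⟩ := IsFilteredOrEmpty.cocone_objs
      (CostructuredArrow.mk (S := G.op) (Y := op V₁) a₁.op) (CostructuredArrow.mk (S := G.op) (Y := op V₂) a₂.op)
    have w₁ : j.hom.unop ≫ G.map g₁.left.unop = a₁ := congrArg Quiver.Hom.unop (CostructuredArrow.w g₁)
    have w₂ : j.hom.unop ≫ G.map g₂.left.unop = a₂ := congrArg Quiver.Hom.unop (CostructuredArrow.w g₂)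
    have e₁ : mk (Z := W) j.left.unop j.hom.unop (F.obj.map g₁.left.unop.op x₁) = mk V₁ a₁ x₁ :=
      (hpull g₁.left.unop j.hom.unop x₁).trans (congrArg (fun q => mk V₁ q x₁) w₁)
    have e₂ : mk (Z := W) j.left.unop j.hom.unop (F.obj.map g₂.left.unop.op x₂) = mk V₂ a₂ x₂ :=
      (hpull g₂.left.unop j.hom.unop x₂).trans (congrArg (fun q => mk V₂ q x₂) w₂)
    rw [← e₁, ← e₂]
    rw [← e₁] at hr
    rw [← e₂] at hr'
    set x := F.obj.map g₁.left.unop.op x₁
    set y := F.obj.map g₂.left.unop.op x₂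
    set a := j.hom.unop
    have hk : ∀ k, ∃ (V' : Y.ProEt) (h : V' ⟶ j.left.unop) (a' : pieceObj W (O k) ⟶ G.obj V'),
        a' ≫ G.map h = pieceHom W (O k) ≫ a ∧ F.obj.map h.op x = F.obj.map h.op y := fun k =>
      heq _ x y (by rw [← hmap, ← hmap]; exact (hr k).trans (hr' k).symm)
    choose V' h a' ha' hxy using hk
    obtain ⟨P, ι, O', e, hO', he⟩ := exists_coprod V'
    obtain ⟨hh, hhh, -⟩ := hO'.existsUnique_glue fun k => (e k).hom ≫ h k
    obtain ⟨b, hb, -⟩ := hO.existsUnique_glue fun k => a' k ≫ G.map (ι k)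
    have hb' : b ≫ G.map hh = a := by
      refine (hO.existsUnique_glue fun k => pieceHom W (O k) ≫ a).unique (fun k => ?_) fun k => rfl
      rw [← Category.assoc, hb, Category.assoc, ← Functor.map_comp, ← ha' k]
      congr 2
      rw [← cancel_epi (e k).hom, ← Category.assoc, he, hhh]
    have hsec : F.obj.map hh.op x = F.obj.map hh.op y := by
      refine (hO'.existsUnique_section hF fun k => F.obj.map (pieceHom P (O' k)).op (F.obj.map hh.op y)).unique
        (fun k => ?_) fun k => rfl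
      simp only [← ConcreteCategory.comp_apply, ← Functor.map_comp, ← op_comp, hhh]
      rw [op_comp, Functor.map_comp, ConcreteCategory.comp_apply, ConcreteCategory.comp_apply, hxy k]
    rw [← hb', ← hpull, ← hpull, hsec]

end Groth.Agent.H26ProEt
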