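import Mathlib.AlgebraicGeometry.Sites.Proetale
import Mathlib.AlgebraicGeometry.Morphisms.Affine
import Mathlib.CategoryTheory.Sites.DenseSubsite.InducedTopology
import Mathlib.CategoryTheory.Category.ULift

/-! Affine objects of the small pro-étale site over an affine open form a finitary site. -/

set_option autoImplicit false

universe u

open CategoryTheory CategoryTheory.Limits AlgebraicGeometry Opposite

namespace Groth.Agent.H26ProEt

variable {S : Scheme.{u}}

/-- The structure functor to schemes. -/
noncomputable abbrev toSch (S : Scheme.{u}) : S.ProEt ⥤ Scheme.{u} := Scheme.ProEt.forget S ⋙ Over.forget S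

lemma mem_topology_iff {X : S.ProEt} {T : Sieve X} :
    T ∈ Scheme.ProEt.topology S X ↔ ∃ R ∈ Scheme.ProEt.precoverage S X, R ≤ (T : Presieve X) := by
  haveI : (Scheme.ProEt.precoverage S).HasIsos := by unfold Scheme.ProEt.precoverage; infer_instance
  haveI : (Scheme.ProEt.precoverage S).IsStableUnderComposition := by
    unfold Scheme.ProEt.precoverage; infer_instance
  haveI : (Scheme.ProEt.precoverage S).IsStableUnderBaseChange := by
    unfold Scheme.ProEt.precoverage; infer_instance
  exact Precoverage.mem_toGrothendieck_iff_of_isStableUnderComposition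

/-- Every covering sieve of an affine object contains a finite affine cover. -/
theorem exists_finite_affine {X : S.ProEt} [IsAffine X.left] {T : Sieve X}
    (hT : T ∈ Scheme.ProEt.topology S X) :
    ∃ (n : ℕ) (V : Fin n → S.ProEt) (g : ∀ k, V k ⟶ X),
      (∀ k, IsAffine (V k).left) ∧ (∀ k, T (g k)) ∧ Sieve.ofArrows V g ∈ Scheme.ProEt.topology S X := by
  obtain ⟨R, hR, hle⟩ := mem_topology_iff.1 hT
  obtain ⟨ι, W, f, rfl⟩ := R.exists_eq_ofArrows
  simp only [Scheme.ProEt.precoverage, Precoverage.mem_comap_iff, Presieve.map_ofArrows] at hR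
  let E : PreZeroHypercover X.left := ⟨ι, fun i => (W i).left, fun i => (toSch S).map (f i)⟩
  haveI : QuasiCompactCover E := Scheme.presieve₀_mem_qcPrecoverage_iff.1 hR.1
  obtain ⟨n, idx, O, hO, hcov⟩ := QuasiCompactCover.exists_isAffineOpen_of_isCompact E
    (show IsCompact ((⊤ : X.left.Opens) : Set X.left) from isCompact_univ)
  haveI : ∀ k, WeaklyEtale ((O k).ι ≫ (W (idx k)).hom) := fun k => inferInstance
  let g : ∀ k, Scheme.ProEt.mk ((O k).ι ≫ (W (idx k)).hom) ⟶ W (idx k) := fun k =>
    MorphismProperty.Over.homMk (O k).ι (by rfl) trivial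
  refine ⟨n, _, fun k => g k ≫ f (idx k), hO, fun k => T.downward_closed (hle _ _ ⟨idx k⟩) _, ?_⟩
  refine Precoverage.generate_mem_toGrothendieck ?_
  simp only [Scheme.ProEt.precoverage, Precoverage.mem_comap_iff, Presieve.map_ofArrows]
  have hmem : Presieve.ofArrows (fun k => (O k : Scheme.{u}))
      (fun k => (toSch S).map (g k ≫ f (idx k))) ∈ Scheme.precoverage @WeaklyEtale X.left := by
    let E' : PreZeroHypercover X.left := ⟨Fin n, fun k => (O k : Scheme.{u}), fun k => (toSch S).map (g k ≫ f (idx k))⟩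
    show E'.presieve₀ ∈ _
    rw [Scheme.presieve₀_mem_precoverage_iff]
    refine ⟨fun x => ?_, fun k => ?_⟩
    · have hx : x ∈ ⋃ k, E.f (idx k) '' (O k : Set (W (idx k)).left) := by rw [hcov]; trivial
      obtain ⟨k, y, hy, rfl⟩ := Set.mem_iUnion.1 hx
      exact ⟨k, ⟨⟨y, hy⟩, rfl⟩⟩
    · show WeaklyEtale (g k ≫ f (idx k)).left
      haveI : WeaklyEtale ((g k ≫ f (idx k)).left ≫ X.hom) := by
        rw [MorphismProperty.Over.w]; infer_instance
      exact WeaklyEtale.of_comp _ X.hom
  refine ⟨?_, hmem⟩
  let C : X.left.Cover (Scheme.precoverage @WeaklyEtale) := ⟨⟨Fin n, fun k => (O k : Scheme.{u}),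
    fun k => (toSch S).map (g k ≫ f (idx k))⟩, hmem⟩
  haveI : ∀ k, IsAffine (C.X k) := hO
  haveI : Finite C.I₀ := inferInstanceAs (Finite (Fin n))
  exact Scheme.presieve₀_mem_qcPrecoverage_iff.2 (QuasiCompactCover.of_finite (𝒰 := C))

variable (U : S.Opens)

/-- Affine objects lying over `U`. -/
def AffOver : ObjectProperty S.ProEt := fun X => IsAffine X.left ∧ ∀ x : X.left, X.hom x ∈ U

/-- The category of affine objects over `U`, with homs in the bigger universe. -/
abbrev Cat : Type (u + 1) := ULiftHom.{u + 1} (AffOver U).FullSubcategory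

/-- The inclusion. -/
abbrev incl : Cat U ⥤ S.ProEt := ULiftHom.down ⋙ (AffOver U).ι

instance : (incl U).Full := ⟨fun f => ⟨⟨ObjectProperty.homMk f⟩, rfl⟩⟩

instance : (incl U).Faithful := ⟨fun {_ _} a b h => ULift.ext a b (ObjectProperty.hom_ext _ h)⟩

lemma affOver_of_hom {X : S.ProEt} (hX : AffOver U X) {V : S.ProEt} (g : V ⟶ X) (hV : IsAffine V.left) :
    AffOver U V := ⟨hV, fun v => by
  rw [← MorphismProperty.Over.w g]
  exact hX.2 _⟩

/-- An affine object over an object of the subsite. -/
def liftObj (X : Cat U) {V : S.ProEt} (g : V ⟶ (incl U).obj X) (hV : IsAffine V.left) : Cat U :=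
  ULiftHom.objUp ⟨V, affOver_of_hom U (ULiftHom.objDown X).2 g hV⟩

/-- The corresponding morphism. -/
def liftHom (X : Cat U) {V : S.ProEt} (g : V ⟶ (incl U).obj X) (hV : IsAffine V.left) :
    liftObj U X g hV ⟶ X := ⟨ObjectProperty.homMk g⟩

lemma map_liftHom (X : Cat U) {V : S.ProEt} (g : V ⟶ (incl U).obj X) (hV : IsAffine V.left) :
    (incl U).map (liftHom U X g hV) = g := rfl

instance : (incl U).LocallyCoverDense (Scheme.ProEt.topology S) where
  functorPushforward_functorPullback_mem {X} T := by
    haveI : IsAffine ((incl U).obj X).left := (ULiftHom.objDown X).2.1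
    obtain ⟨n, V, g, hV, hg, hcov⟩ := exists_finite_affine T.2
    refine GrothendieckTopology.superset_covering _ ?_ hcov
    rw [Sieve.ofArrows, Sieve.generate_le_iff, Presieve.ofArrows_le_iff]
    intro k
    refine ⟨liftObj U X (g k) (hV k), liftHom U X (g k) (hV k), 𝟙 _, ?_, ?_⟩
    · show T.1 ((incl U).map (liftHom U X (g k) (hV k)))
      rw [map_liftHom]; exact hg k
    · rw [map_liftHom]; exact (Category.id_comp _).symm

/-- The topology on affine objects. -/
noncomputable abbrev top : GrothendieckTopology (Cat U) := (incl U).restrictedTopology (Scheme.ProEt.topology S)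

theorem finitary (X : Cat U) (T : Sieve X) (hT : T ∈ top U X) :
    ∃ (n : ℕ) (V : Fin n → Cat U) (g : ∀ k, V k ⟶ X), (∀ k, T (g k)) ∧ Sieve.ofArrows V g ∈ top U X := by
  haveI : IsAffine ((incl U).obj X).left := (ULiftHom.objDown X).2.1
  obtain ⟨n, V, g, hV, hg, hcov⟩ := exists_finite_affine (Functor.mem_restrictedTopology_iff.1 hT)
  refine ⟨n, fun k => liftObj U X (g k) (hV k),
    fun k => liftHom U X (g k) (hV k), fun k => ?_, Functor.mem_restrictedTopology_iff.2 ?_⟩
  · obtain ⟨Y, q, h, hq, e⟩ := hg k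
    have : liftHom U X (g k) (hV k) = (incl U).preimage (X := liftObj U X (g k) (hV k)) h ≫ q :=
      (incl U).map_injective (by rw [Functor.map_comp, Functor.map_preimage, map_liftHom]; exact e)
    show T (liftHom U X (g k) (hV k))
    rw [this]
    exact T.downward_closed hq _
  · rw [Sieve.functorPushforward_ofArrows]
    refine GrothendieckTopology.superset_covering _ ?_ hcov
    rw [Sieve.ofArrows, Sieve.generate_le_iff, Presieve.ofArrows_le_iff]
    intro k
    exact ⟨_, 𝟙 _, _, ⟨k⟩, by rw [map_liftHom]; exact Category.id_comp _⟩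

lemma hasTerminal_aff (hU : IsAffineOpen U) : HasTerminal (AffOver U).FullSubcategory := by
  let T : (AffOver U).FullSubcategory := ⟨Scheme.ProEt.mk U.ι, hU, fun x => x.2⟩
  haveI : ∀ X : (AffOver U).FullSubcategory, Nonempty (X ⟶ T) := fun X => by
    have hr : Set.range (X.1.hom : X.1.left ⟶ S) ⊆ Set.range U.ι := by
      rintro _ ⟨x, rfl⟩
      exact Scheme.Opens.range_ι U ▸ X.2.2 x
    have e := IsOpenImmersion.lift_fac U.ι (X.1.hom : X.1.left ⟶ S) hr
    exact ⟨ObjectProperty.homMk (MorphismProperty.Over.homMk _ e trivial)⟩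
  haveI : ∀ X : (AffOver U).FullSubcategory, Subsingleton (X ⟶ T) := fun X => ⟨fun a b => by
    apply ObjectProperty.hom_ext
    apply MorphismProperty.Over.Hom.ext
    refine (cancel_mono U.ι).1 ?_
    exact (MorphismProperty.Over.w a.hom).trans (MorphismProperty.Over.w b.hom).symm⟩
  exact hasTerminal_of_unique T

lemma hasPullbacks_aff : HasPullbacks (AffOver U).FullSubcategory := by
  haveI : ∀ {A B C : (AffOver U).FullSubcategory} {f : A ⟶ C} {g : B ⟶ C}, HasLimit (cospan f g) := by
    intro A B C f g
    have hP : IsPullback (pullback.fst f.hom g.hom) (pullback.snd f.hom g.hom) f.hom g.hom :=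
      IsPullback.of_hasPullback _ _
    have hS := hP.map (toSch S)
    have : IsAffine ((toSch S).obj (pullback f.hom g.hom)) := by
      haveI : IsAffine ((toSch S).obj A.1) := A.2.1
      haveI : IsAffine ((toSch S).obj B.1) := B.2.1
      haveI : IsAffine ((toSch S).obj C.1) := C.2.1
      exact .of_isIso hS.isoPullback.hom
    let P : (AffOver U).FullSubcategory := ⟨pullback f.hom g.hom,
      affOver_of_hom U A.2 (pullback.fst f.hom g.hom) this⟩
    have : IsPullback (P := P) (ObjectProperty.homMk (pullback.fst f.hom g.hom))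
        (ObjectProperty.homMk (pullback.snd f.hom g.hom)) f g :=
      IsPullback.of_map (AffOver U).ι (ObjectProperty.hom_ext _ hP.w) hP
    exact this.hasPullback
  exact hasPullbacks_of_hasLimit_cospan _

theorem hasFiniteLimits_cat (hU : IsAffineOpen U) : HasFiniteLimits (Cat U) := by
  haveI := hasTerminal_aff U hU
  haveI := hasPullbacks_aff U
  haveI : HasFiniteLimits (AffOver U).FullSubcategory := hasFiniteLimits_of_hasTerminal_and_pullbacks
  haveI : (ULiftHom.down : Cat U ⥤ (AffOver U).FullSubcategory).IsEquivalence :=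
    ULiftHom.equiv.isEquivalence_inverse
  exact ⟨fun J _ _ => Adjunction.hasLimitsOfShape_of_equivalence
    (ULiftHom.down : Cat U ⥤ (AffOver U).FullSubcategory)⟩

end Groth.Agent.H26ProEt
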